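import Groth.Agent.FEtSpreadGlue.Extend
import Groth.Agent.RatDense.Hartogs
import Groth.Prelude.Def_FEt

/-!
# Maximal extensions of finite etale covers
-/

set_option autoImplicit false
set_option backward.isDefEq.respectTransparency false
set_option backward.defeqAttrib.useBackward true

universe u
open CategoryTheory CategoryTheory.Limits AlgebraicGeometry

noncomputable section

namespace Groth.Agent.FEtSpreadGlue

/-- If a point is maximal outside an open, the open meets its local scheme in the punctured spectrum. -/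
theorem exists_isPullback_punctured {X : Scheme.{u}} (W : X.Opens) (x : X) (hx : x ∉ W)
    (hmax : ∀ y : X, y ∉ W → y ⤳ x → y = x) :
    ∃ g : (FEt.puncturedSpec (X.presheaf.stalk x) : Scheme.{u}) ⟶ W.toScheme,
      IsPullback g (FEt.puncturedSpec (X.presheaf.stalk x)).ι W.ι (X.fromSpecStalk x) := by
  let A := X.presheaf.stalk x
  let P := FEt.puncturedSpec A
  have key : ∀ t : Spec A, X.fromSpecStalk x t ∈ W ↔ t ∈ P := by
    intro t
    change _ ↔ t ≠ IsLocalRing.closedPoint A
    constructor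
    · rintro h rfl
      exact hx (Scheme.fromSpecStalk_closedPoint (X := X) (x := x) ▸ h)
    · intro h
      by_contra hc
      have hs : X.fromSpecStalk x t ⤳ x := by
        have : X.fromSpecStalk x t ∈ Set.range (X.fromSpecStalk x) := ⟨t, rfl⟩
        rw [Scheme.range_fromSpecStalk] at this
        exact this
      refine h ((X.fromSpecStalk x).isEmbedding.injective ?_)
      exact (hmax _ hc hs).trans (Scheme.fromSpecStalk_closedPoint).symm
  have hr : Set.range (P.ι ≫ X.fromSpecStalk x) ⊆ Set.range W.ι := by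
    rintro _ ⟨t, rfl⟩
    rw [Scheme.Opens.range_ι]
    exact (key _).mpr t.2
  refine ⟨IsOpenImmersion.lift W.ι _ hr, IsOpenImmersion.isPullback _ _ _ _
    (IsOpenImmersion.lift_fac _ _ _).symm ?_⟩
  ext t
  change X.fromSpecStalk x t ∈ Set.range W.ι ↔ t ∈ Set.range P.ι
  rw [Scheme.Opens.range_ι, Scheme.Opens.range_ι]
  exact key t

/-- Purity at the points outside an open extends covers, over a Noetherian scheme. -/
theorem exists_extension {X : Scheme.{u}} [IsNoetherian X] (U : X.Opens)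
    (h : ∀ x : X, x ∉ U → FEt.PurityHolds (X.presheaf.stalk x))
    {V : Scheme.{u}} (a : V ⟶ U.toScheme) [IsFinite a] [Etale a] :
    ∃ (Y : Scheme.{u}) (p : Y ⟶ X) (j : V ⟶ Y), IsFinite p ∧ Etale p ∧ IsPullback j a p U.ι := by
  let S : Set X.Opens := {W | ∃ (hle : U ≤ W) (Y : Scheme.{u}) (p : Y ⟶ W.toScheme) (j : V ⟶ Y),
    IsFinite p ∧ Etale p ∧ IsPullback j a p (X.homOfLE hle)}
  haveI : IsIso (X.homOfLE (le_refl U)) := by rw [Scheme.homOfLE_rfl]; infer_instance
  have hne : S.Nonempty := ⟨U, le_rfl, V, a, 𝟙 V, ‹_›, ‹_›, IsPullback.of_horiz_isIso ⟨by simp⟩⟩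
  obtain ⟨W, ⟨hle, Y, p, j, hp1, hp2, hsq⟩, hWmax⟩ := WellFounded.has_min wellFounded_gt S hne
  haveI := hp1
  haveI := hp2
  by_cases htop : W = ⊤
  · subst htop
    haveI : IsIso (⊤ : X.Opens).ι := X.topIso.isIso_hom
    refine ⟨Y, p ≫ (⊤ : X.Opens).ι, j, inferInstance, inferInstance, ?_⟩
    have h2 : IsPullback (𝟙 Y) p (p ≫ (⊤ : X.Opens).ι) (⊤ : X.Opens).ι :=
      IsPullback.of_horiz_isIso ⟨by simp⟩
    have h3 := hsq.paste_horiz h2
    rwa [Category.comp_id, Scheme.homOfLE_ι] at h3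
  exfalso
  obtain ⟨x, hx, hxmax⟩ := Groth.Agent.RatDense.exists_maximal_mem (X := X) ((W : Set X)ᶜ)
    W.isOpen.isClosed_compl (Set.nonempty_compl.mpr fun e => htop (TopologicalSpace.Opens.ext e))
  have hx : x ∉ W := hx
  obtain ⟨g, hg⟩ := exists_isPullback_punctured W x hx fun y hy hyx => hxmax y hy hyx
  have hpur := h x fun hxU => hx (hle hxU)
  unfold FEt.PurityHolds at hpur
  haveI := hpur
  let Y₀ : FEt.Cat (FEt.puncturedSpec (X.presheaf.stalk x) : Scheme.{u}) :=
    MorphismProperty.Over.mk ⊤ (pullback.snd p g)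
      ⟨MorphismProperty.pullback_snd (P := @IsFinite) _ _ hp1,
        MorphismProperty.pullback_snd (P := @Etale) _ _ hp2⟩
  let Z := (FEt.restrict (FEt.puncturedSpec (X.presheaf.stalk x)).ι).objPreimage Y₀
  let φ := (FEt.restrict (FEt.puncturedSpec (X.presheaf.stalk x)).ι).objObjPreimageIso Y₀
  let φ' : pullback Z.hom (FEt.puncturedSpec (X.presheaf.stalk x)).ι ≅ pullback p g :=
    (MorphismProperty.Over.forget _ _ _ ⋙ Over.forget _).mapIso φ
  have hφ' : φ'.hom ≫ pullback.snd p g = pullback.snd Z.hom _ := MorphismProperty.Over.w φ.hom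
  haveI : IsFinite Z.hom := Z.prop.1
  haveI : Etale Z.hom := Z.prop.2
  let u := hg.isoPullback
  have hu1 : u.hom ≫ pullback.fst W.ι (X.fromSpecStalk x) = g := hg.isoPullback_hom_fst
  have hu2 : u.hom ≫ pullback.snd W.ι (X.fromSpecStalk x) = _ := hg.isoPullback_hom_snd
  have sA : IsPullback (pullback.fst p g) (pullback.snd p g ≫ u.hom) p
      (pullback.fst W.ι (X.fromSpecStalk x)) :=
    (IsPullback.of_hasPullback p g).of_iso (Iso.refl _) (Iso.refl _) u (Iso.refl _)
      (by simp) (by simp) (by simp) (by simp [u])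
  have sB : IsPullback (pullback.fst Z.hom (FEt.puncturedSpec (X.presheaf.stalk x)).ι)
      (pullback.snd Z.hom (FEt.puncturedSpec (X.presheaf.stalk x)).ι ≫ u.hom) Z.hom
      (pullback.snd W.ι (X.fromSpecStalk x)) :=
    (IsPullback.of_hasPullback Z.hom _).of_iso (Iso.refl _) (Iso.refl _) u (Iso.refl _)
      (by simp) (by simp) (by simp) (by simp [u])
  obtain ⟨W', hWW', Y', p', j', hxW', hp'1, hp'2, hsq'⟩ := extend_at W p x Z.hom
    (sA.isoPullback.symm ≪≫ φ'.symm ≪≫ sB.isoPullback) (by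
      rw [← cancel_epi sA.isoPullback.hom]
      simp only [Iso.trans_hom, Iso.symm_hom, Category.assoc, Iso.hom_inv_id_assoc,
        IsPullback.isoPullback_hom_snd]
      rw [← hφ', Category.assoc, Iso.inv_hom_id_assoc])
  refine hWmax W' ⟨hle.trans hWW', Y', p', j ≫ j', hp'1, hp'2, ?_⟩
    (lt_of_le_of_ne hWW' fun e => hx (e ▸ hxW'))
  have h3 := hsq.paste_horiz hsq'
  rwa [Scheme.homOfLE_homOfLE] at h3

/-- Functor form. -/
theorem essSurj_restrict {X : Scheme.{u}} [IsNoetherian X] (U : X.Opens)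
    (h : ∀ x : X, x ∉ U → FEt.PurityHolds (X.presheaf.stalk x)) : (FEt.restrict U.ι).EssSurj := by
  refine ⟨fun V => ?_⟩
  haveI : IsFinite V.hom := V.prop.1
  haveI : Etale V.hom := V.prop.2
  obtain ⟨Y, p, j, h1, h2, hsq⟩ := exists_extension U h V.hom
  refine ⟨MorphismProperty.Over.mk ⊤ p ⟨h1, h2⟩, ⟨?_⟩⟩
  exact MorphismProperty.Over.isoMk hsq.isoPullback.symm hsq.isoPullback_inv_snd

end Groth.Agent.FEtSpreadGlue
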