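import Groth.Prelude.Def_FEt
import Groth.Agent.AffLim.Points
import Groth.Agent.FEtLimFaith.Main

/-!
# Isomorphisms of finite etale covers over a cofiltered limit come from a stage
-/

set_option autoImplicit false
set_option backward.isDefEq.respectTransparency false
set_option backward.defeqAttrib.useBackward true

universe u
open CategoryTheory CategoryTheory.Limits AlgebraicGeometry

noncomputable section

namespace Groth.Agent.FEtSpreadGlue

variable {I : Type u} [SmallCategory I] [IsCofiltered I]
  (D : I ⥤ Scheme.{u}) (c : Limits.Cone D) (hc : Limits.IsLimit c)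
  [∀ (i j : I) (f : i ⟶ j), IsAffineHom (D.map f)] [∀ i, CompactSpace (D.obj i)]
  [∀ i, QuasiSeparatedSpace (D.obj i)]

section

variable {i : I} {A B : Scheme.{u}} (a : A ⟶ D.obj i) (b : B ⟶ D.obj i) [IsFinite a] [Etale a]
  [IsFinite b] [Etale b]

include hc in
/-- A morphism over the limit comes from a stage. -/
theorem exists_hom_stage (φ : pullback a (c.π.app i) ⟶ pullback b (c.π.app i))
    (hφ : φ ≫ pullback.snd _ _ = pullback.snd _ _) :
    ∃ (j : I) (f : j ⟶ i) (m : pullback a (D.map f) ⟶ pullback b (D.map f)),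
      m ≫ pullback.snd _ _ = pullback.snd _ _ ∧
      ∀ (hw : c.π.app j ≫ D.map f = c.π.app i),
        pullback.map a (c.π.app i) a (D.map f) (𝟙 _) (c.π.app j) (𝟙 _) (by simp) (by simp [hw]) ≫ m =
          φ ≫ pullback.map b (c.π.app i) b (D.map f) (𝟙 _) (c.π.app j) (𝟙 _) (by simp) (by simp [hw]) := by
  haveI : CompactSpace A := QuasiCompact.compactSpace_of_compactSpace a
  haveI : QuasiSeparatedSpace A := quasiSeparatedSpace_of_quasiSeparated a
  haveI : ∀ {k l : I} (g : k ⟶ l), IsAffineHom (D.map g) := fun g => inferInstance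
  haveI : ∀ k : Over i, QuasiSeparatedSpace ((AffLim.baseChange D i a).obj k) := fun k =>
    haveI : IsAffineHom (pullback.fst a (D.map k.hom)) :=
      MorphismProperty.pullback_fst (P := @IsAffineHom) a (D.map k.hom) inferInstance
    quasiSeparatedSpace_of_quasiSeparated (pullback.fst a (D.map k.hom))
  obtain ⟨hl⟩ := AffLim.nonempty_isLimit_baseChangeCone D c hc i a
  let t : AffLim.baseChange D i a ⟶ (Functor.const (Over i)).obj (D.obj i) :=
    { app := fun k => pullback.fst _ _ ≫ a
      naturality := fun k l g => by simp }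
  obtain ⟨k, g, hg, hg'⟩ := Scheme.exists_π_app_comp_eq_of_locallyOfFinitePresentation
    (AffLim.baseChange D i a) t b (AffLim.baseChangeCone D c i a) hl
    (φ ≫ pullback.fst b (c.π.app i)) (by
      ext j
      simp [t]
      rw [pullback.condition, pullback.condition (f := b), reassoc_of% hφ])
  have hg' : g ≫ b = pullback.fst a (D.map k.hom) ≫ a := hg'
  refine ⟨k.left, k.hom, pullback.lift g (pullback.snd _ _) (hg'.trans pullback.condition),
    pullback.lift_snd _ _ _, fun hw => ?_⟩
  apply pullback.hom_ext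
  · simp only [Category.assoc, pullback.lift_fst, Category.comp_id]
    exact hg
  · simp only [Category.assoc, pullback.lift_snd, reassoc_of% hφ]

include hc in
/-- An isomorphism over the limit comes from some stage. -/
theorem exists_iso_stage (e : pullback a (c.π.app i) ≅ pullback b (c.π.app i))
    (he : e.hom ≫ pullback.snd _ _ = pullback.snd _ _) :
    ∃ (j : I) (f : j ⟶ i) (e' : pullback a (D.map f) ≅ pullback b (D.map f)),
      e'.hom ≫ pullback.snd _ _ = pullback.snd _ _ := by
  obtain ⟨j₁, f₁, m, hm, hm'⟩ := exists_hom_stage D c hc a b e.hom he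
  obtain ⟨j₂, f₂, n, hn, hn'⟩ := exists_hom_stage D c hc b a e.inv (by rw [← he, Iso.inv_hom_id_assoc])
  let w := IsCofiltered.wideCospan (fun x : Bool => cond x (⟨j₁, f₁⟩ : Σ j, j ⟶ i) ⟨j₂, f₂⟩ |>.2)
  obtain ⟨j, f, g, hgf⟩ := w
  let g₁ : j ⟶ j₁ := g true
  let g₂ : j ⟶ j₂ := g false
  have e₁ : g₁ ≫ f₁ = f := hgf true
  have e₂ : g₂ ≫ f₂ = f := hgf false
  -- transport to the common stage
  let M : pullback a (D.map f) ⟶ pullback b (D.map f) :=
    pullback.lift (pullback.map a (D.map f) a (D.map f₁) (𝟙 _) (D.map g₁) (𝟙 _) (by simp)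
        (by rw [Category.comp_id, ← D.map_comp, e₁]) ≫ m ≫ pullback.fst _ _) (pullback.snd _ _) (by
      simp only [Category.assoc, pullback.condition, reassoc_of% hm, pullback.lift_snd_assoc]
      rw [← D.map_comp, e₁])
  let N : pullback b (D.map f) ⟶ pullback a (D.map f) :=
    pullback.lift (pullback.map b (D.map f) b (D.map f₂) (𝟙 _) (D.map g₂) (𝟙 _) (by simp)
        (by rw [Category.comp_id, ← D.map_comp, e₂]) ≫ n ≫ pullback.fst _ _) (pullback.snd _ _) (by
      simp only [Category.assoc, pullback.condition, reassoc_of% hn, pullback.lift_snd_assoc]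
      rw [← D.map_comp, e₂])
  have hM : M ≫ pullback.snd _ _ = pullback.snd _ _ := pullback.lift_snd _ _ _
  have hN : N ≫ pullback.snd _ _ = pullback.snd _ _ := pullback.lift_snd _ _ _
  have hwf : c.π.app j ≫ D.map f = c.π.app i := c.w f
  have kM : pullback.map a (c.π.app i) a (D.map f) (𝟙 _) (c.π.app j) (𝟙 _) (by simp) (by simp [hwf]) ≫ M =
      e.hom ≫ pullback.map b (c.π.app i) b (D.map f) (𝟙 _) (c.π.app j) (𝟙 _) (by simp) (by simp [hwf]) := by
    apply pullback.hom_ext
    · have h := congrArg (· ≫ pullback.fst b (D.map f₁)) (hm' (c.w f₁))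
      simp only [Category.assoc, pullback.lift_fst, Category.comp_id] at h
      simp only [M, Category.assoc, pullback.lift_fst, Category.comp_id]
      rw [← h]
      simp only [← Category.assoc]
      congr 2
      apply pullback.hom_ext <;> simp
    · simp only [M, Category.assoc, pullback.lift_snd, reassoc_of% he]
  have kN : pullback.map b (c.π.app i) b (D.map f) (𝟙 _) (c.π.app j) (𝟙 _) (by simp) (by simp [hwf]) ≫ N =
      e.inv ≫ pullback.map a (c.π.app i) a (D.map f) (𝟙 _) (c.π.app j) (𝟙 _) (by simp) (by simp [hwf]) := by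
    apply pullback.hom_ext
    · have h := congrArg (· ≫ pullback.fst a (D.map f₂)) (hn' (c.w f₂))
      simp only [Category.assoc, pullback.lift_fst, Category.comp_id] at h
      simp only [N, Category.assoc, pullback.lift_fst, Category.comp_id]
      rw [← h]
      simp only [← Category.assoc]
      congr 2
      apply pullback.hom_ext <;> simp
    · simp only [N, Category.assoc, pullback.lift_snd]
      rw [← cancel_epi e.hom, Iso.hom_inv_id_assoc, reassoc_of% he]
  -- faithfulness
  have key : ∀ {A B : Scheme.{u}} (a : A ⟶ D.obj i) [IsFinite a] [Etale a]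
      (P : pullback a (D.map f) ⟶ pullback a (D.map f)),
      P ≫ pullback.snd _ _ = pullback.snd _ _ →
      pullback.map a (c.π.app i) a (D.map f) (𝟙 _) (c.π.app j) (𝟙 _) (by simp) (by simp [hwf]) ≫ P =
        pullback.map a (c.π.app i) a (D.map f) (𝟙 _) (c.π.app j) (𝟙 _) (by simp) (by simp [hwf]) →
      ∃ (k : I) (h : k ⟶ j), pullback.fst (pullback.snd a (D.map f)) (D.map h) ≫ P =
        pullback.fst (pullback.snd a (D.map f)) (D.map h) := by
    intro A B a _ _ P hP h
    obtain ⟨k, h', hk⟩ := FEtLimFaith.exists_stage_eq D c hc j (pullback.snd a (D.map f))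
      (pullback.snd a (D.map f)) P (𝟙 _) hP (Category.id_comp _) (by
        let l : pullback (pullback.snd a (D.map f)) (c.π.app j) ⟶ pullback a (c.π.app i) :=
          pullback.lift (pullback.fst _ _ ≫ pullback.fst _ _) (pullback.snd _ _) (by
            rw [Category.assoc, pullback.condition, ← hwf, ← Category.assoc, pullback.condition,
              Category.assoc])
        have hl : l ≫ pullback.map a (c.π.app i) a (D.map f) (𝟙 _) (c.π.app j) (𝟙 _) (by simp)
            (by simp [hwf]) = pullback.fst (pullback.snd a (D.map f)) (c.π.app j) := by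
          apply pullback.hom_ext
          · simp [l]
          · simp [l, pullback.condition]
        rw [← hl, Category.assoc, h]
        exact (Category.comp_id _).symm)
    exact ⟨k, h', by simpa using hk⟩
  obtain ⟨k₁, h₁, hk₁⟩ := key (B := B) a (M ≫ N) (by rw [Category.assoc, hN, hM])
    (by rw [reassoc_of% kM, kN, Iso.hom_inv_id_assoc])
  obtain ⟨k₂, h₂, hk₂⟩ := key (B := B) b (N ≫ M) (by rw [Category.assoc, hM, hN])
    (by rw [reassoc_of% kN, kM, Iso.inv_hom_id_assoc])
  obtain ⟨k, u₁, u₂, hu⟩ : ∃ (k : I) (u₁ : k ⟶ k₁) (u₂ : k ⟶ k₂), u₁ ≫ h₁ = u₂ ≫ h₂ := by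
    obtain ⟨k, u₁, u₂, hu⟩ := IsCofiltered.cospan h₁ h₂
    exact ⟨k, u₁, u₂, hu⟩
  let h := u₁ ≫ h₁
  let qa : pullback a (D.map (h ≫ f)) ⟶ pullback a (D.map f) :=
    pullback.map _ _ _ _ (𝟙 _) (D.map h) (𝟙 _) (by simp) (by simp)
  let qb : pullback b (D.map (h ≫ f)) ⟶ pullback b (D.map f) :=
    pullback.map _ _ _ _ (𝟙 _) (D.map h) (𝟙 _) (by simp) (by simp)
  let F : pullback a (D.map (h ≫ f)) ⟶ pullback b (D.map (h ≫ f)) :=
    pullback.lift (qa ≫ M ≫ pullback.fst _ _) (pullback.snd _ _) (by
      simp only [qa, Category.assoc, pullback.condition, reassoc_of% hM, pullback.lift_snd_assoc,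
        Functor.map_comp])
  let G : pullback b (D.map (h ≫ f)) ⟶ pullback a (D.map (h ≫ f)) :=
    pullback.lift (qb ≫ N ≫ pullback.fst _ _) (pullback.snd _ _) (by
      simp only [qb, Category.assoc, pullback.condition, reassoc_of% hN, pullback.lift_snd_assoc,
        Functor.map_comp])
  have hF : F ≫ qb = qa ≫ M := by
    apply pullback.hom_ext
    · simp [F, qb, qa]
    · simp only [F, qb, qa, Category.assoc, pullback.lift_snd, pullback.lift_snd_assoc, hM]
  have hG : G ≫ qa = qb ≫ N := by
    apply pullback.hom_ext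
    · simp [G, qb, qa]
    · simp only [G, qb, qa, Category.assoc, pullback.lift_snd, pullback.lift_snd_assoc, hN]
  have hA : qa ≫ M ≫ N = qa := by
    let l : pullback a (D.map (h ≫ f)) ⟶ pullback (pullback.snd a (D.map f)) (D.map h₁) :=
      pullback.lift qa (pullback.snd _ _ ≫ D.map u₁) (by simp [qa, h])
    have := l ≫= hk₁
    simpa [l, pullback.lift_fst_assoc] using this
  have hB : qb ≫ N ≫ M = qb := by
    let l : pullback b (D.map (h ≫ f)) ⟶ pullback (pullback.snd b (D.map f)) (D.map h₂) :=
      pullback.lift qb (pullback.snd _ _ ≫ D.map u₂) (by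
        simp only [qb, pullback.lift_snd, h, hu, Functor.map_comp, Category.assoc])
    have := l ≫= hk₂
    simpa [l, pullback.lift_fst_assoc] using this
  refine ⟨k, h ≫ f, ⟨F, G, ?_, ?_⟩, pullback.lift_snd _ _ _⟩
  · apply pullback.hom_ext
    · simp only [G, Category.assoc, pullback.lift_fst, Category.id_comp]
      rw [reassoc_of% hF, reassoc_of% hA]
      simp [qa]
    · simp [F, G]
  · apply pullback.hom_ext
    · simp only [F, Category.assoc, pullback.lift_fst, Category.id_comp]
      rw [reassoc_of% hG, reassoc_of% hB]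
      simp [qb]
    · simp [F, G]

end

end Groth.Agent.FEtSpreadGlue
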