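import Groth.Agent.FEtSpreadGlue.Glue
import Groth.Agent.FEtSpreadGlue.IsoStage
import Groth.Agent.PropPi1.LimEss
import Groth.Agent.SubmEtSpread.NhdLim

/-!
# Extending a finite etale cover past a point
-/

set_option autoImplicit false
set_option backward.isDefEq.respectTransparency false
set_option backward.defeqAttrib.useBackward true

universe u
open CategoryTheory CategoryTheory.Limits AlgebraicGeometry

noncomputable section

namespace Groth.Agent.FEtSpreadGlue

open SubmEtSpread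

/-- A cover of an open which extends over the local scheme at `x` extends over a neighbourhood. -/
theorem extend_at {X : Scheme.{u}} [IsLocallyNoetherian X] (W : X.Opens) {V : Scheme.{u}}
    (a : V ⟶ W.toScheme) [IsFinite a] [Etale a] (x : X) {Z : Scheme.{u}}
    (z : Z ⟶ Spec (X.presheaf.stalk x)) [IsFinite z] [Etale z]
    (θ : pullback a (pullback.fst W.ι (X.fromSpecStalk x)) ≅
      pullback z (pullback.snd W.ι (X.fromSpecStalk x)))
    (hθ : θ.hom ≫ pullback.snd _ _ = pullback.snd _ _) :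
    ∃ (W' : X.Opens) (hle : W ≤ W') (Y : Scheme.{u}) (p : Y ⟶ W'.toScheme) (j : V ⟶ Y),
      x ∈ W' ∧ IsFinite p ∧ Etale p ∧ IsPullback j a p (X.homOfLE hle) := by
  obtain ⟨hc⟩ := Nhd.nonempty_isLimit_cone X x
  obtain ⟨hbc⟩ := Nhd.nonempty_isLimit_bcone X x W.ι
  haveI : IsFinite (show Z ⟶ (Nhd.cone X x).pt from z) := ‹IsFinite z›
  haveI : Etale (show Z ⟶ (Nhd.cone X x).pt from z) := ‹Etale z›
  haveI : ∀ k, CompactSpace ((Nhd.sys X x).obj k) := fun k => inferInstance
  haveI : ∀ k, QuasiSeparatedSpace ((Nhd.sys X x).obj k) := fun k => inferInstance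
  haveI : ∀ (i j : Nhd X x) (f : i ⟶ j), IsAffineHom ((Nhd.sys X x).map f) :=
    fun i j f => inferInstance
  haveI : ∀ (i j : Nhd X x) (f : i ⟶ j), IsAffineHom ((Nhd.bsys X x W.ι).map f) :=
    fun i j f => inferInstance
  obtain ⟨k, Z₀, z₀, q, hz₁, hz₂, sq⟩ := PropPi1.exists_finiteEtale_stage (Nhd.sys X x)
    (Nhd.cone X x) hc (show Z ⟶ (Nhd.cone X x).pt from z)
  haveI := hz₁
  haveI := hz₂
  -- the two covers at stage k
  let fk := pullback.fst W.ι ((Nhd.toBase X x).app k)
  let sk := pullback.snd W.ι ((Nhd.toBase X x).app k)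
  let A₀ : pullback a fk ⟶ (Nhd.bsys X x W.ι).obj k := pullback.snd a fk
  let B₀ : pullback z₀ sk ⟶ (Nhd.bsys X x W.ι).obj k := pullback.snd z₀ sk
  haveI : IsFinite A₀ := MorphismProperty.pullback_snd (P := @IsFinite) _ _ inferInstance
  haveI : Etale A₀ := MorphismProperty.pullback_snd (P := @Etale) _ _ inferInstance
  haveI : IsFinite B₀ := MorphismProperty.pullback_snd (P := @IsFinite) _ _ inferInstance
  haveI : Etale B₀ := MorphismProperty.pullback_snd (P := @Etale) _ _ inferInstance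
  let π := (Nhd.bcone X x W.ι).π.app k
  have hπ1 : π ≫ fk = pullback.fst W.ι (X.fromSpecStalk x) := pullback.lift_fst _ _ _
  have hπ2 : π ≫ sk = pullback.snd W.ι (X.fromSpecStalk x) ≫ (Nhd.cone X x).π.app k :=
    pullback.lift_snd _ _ _
  have sA : IsPullback (pullback.fst A₀ π ≫ pullback.fst a fk) (pullback.snd A₀ π) a
      (pullback.fst W.ι (X.fromSpecStalk x)) := by
    rw [← hπ1]
    exact (IsPullback.of_hasPullback A₀ π).paste_horiz (IsPullback.of_hasPullback a fk)
  have sB : IsPullback (pullback.fst B₀ π ≫ pullback.fst z₀ sk) (pullback.snd B₀ π) z₀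
      (pullback.snd W.ι (X.fromSpecStalk x) ≫ (Nhd.cone X x).π.app k) := by
    rw [← hπ2]
    exact (IsPullback.of_hasPullback B₀ π).paste_horiz (IsPullback.of_hasPullback z₀ sk)
  have sZ : IsPullback (pullback.fst z (pullback.snd W.ι (X.fromSpecStalk x)) ≫ q)
      (pullback.snd z (pullback.snd W.ι (X.fromSpecStalk x))) z₀
      (pullback.snd W.ι (X.fromSpecStalk x) ≫ (Nhd.cone X x).π.app k) :=
    (IsPullback.of_hasPullback z _).paste_horiz sq
  obtain ⟨l, f, e', he'⟩ := exists_iso_stage (Nhd.bsys X x W.ι) (Nhd.bcone X x W.ι) hbc A₀ B₀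
    (sA.isoPullback ≪≫ θ ≪≫ sZ.isoIsPullback _ _ sB) (by
      change sA.isoPullback.hom ≫ θ.hom ≫ (sZ.isoIsPullback _ _ sB).hom ≫ pullback.snd _ _ = _
      exact (congrArg (fun t => sA.isoPullback.hom ≫ θ.hom ≫ t)
        (IsPullback.isoIsPullback_hom_snd _ _ sZ sB)).trans
        ((congrArg (sA.isoPullback.hom ≫ ·) hθ).trans sA.isoPullback_hom_snd))
  -- the gluing data
  let fl := pullback.fst W.ι ((Nhd.toBase X x).app l)
  let sl := pullback.snd W.ι ((Nhd.toBase X x).app l)
  let b := pullback.snd z₀ ((Nhd.sys X x).map f)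
  haveI : IsFinite b := MorphismProperty.pullback_snd (P := @IsFinite) _ _ inferInstance
  haveI : Etale b := MorphismProperty.pullback_snd (P := @Etale) _ _ inferInstance
  let F := (Nhd.bsys X x W.ι).map f
  have hF1 : F ≫ fk = fl := pullback.lift_fst _ _ _
  have hF2 : F ≫ sk = sl ≫ (Nhd.sys X x).map f := pullback.lift_snd _ _ _
  have tA : IsPullback (pullback.fst A₀ F ≫ pullback.fst a fk) (pullback.snd A₀ F) a fl := by
    rw [← hF1]
    exact (IsPullback.of_hasPullback A₀ F).paste_horiz (IsPullback.of_hasPullback a fk)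
  have tB : IsPullback (pullback.fst B₀ F ≫ pullback.fst z₀ sk) (pullback.snd B₀ F) z₀
      (sl ≫ (Nhd.sys X x).map f) := by
    rw [← hF2]
    exact (IsPullback.of_hasPullback B₀ F).paste_horiz (IsPullback.of_hasPullback z₀ sk)
  have tZ : IsPullback (pullback.fst b sl ≫ pullback.fst z₀ ((Nhd.sys X x).map f))
      (pullback.snd b sl) z₀ (sl ≫ (Nhd.sys X x).map f) :=
    (IsPullback.of_hasPullback b sl).paste_horiz (IsPullback.of_hasPullback z₀ _)
  let ε : pullback a fl ≅ pullback b sl := tA.isoPullback.symm ≪≫ e' ≪≫ tB.isoIsPullback _ _ tZ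
  have hε : ε.hom ≫ pullback.snd b sl = pullback.snd a fl := by
    simp only [ε, Iso.trans_hom, Iso.symm_hom, Category.assoc]
    exact (congrArg (fun t => tA.isoPullback.inv ≫ e'.hom ≫ t)
      (IsPullback.isoIsPullback_hom_snd _ _ tB tZ)).trans
      ((congrArg (tA.isoPullback.inv ≫ ·) he').trans tA.isoPullback_inv_snd)
  -- the bigger open
  let W' : X.Opens := W ⊔ l.V
  let i₁ := X.homOfLE (le_sup_left : W ≤ W')
  have hr : Set.range ((Nhd.toBase X x).app l) ⊆ Set.range W'.ι := by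
    rw [Scheme.Opens.range_ι]
    exact l.isAffine.range_fromSpec.le.trans fun y hy => Or.inr hy
  let i₂ := IsOpenImmersion.lift W'.ι ((Nhd.toBase X x).app l) hr
  have hi₂ : i₂ ≫ W'.ι = (Nhd.toBase X x).app l := IsOpenImmersion.lift_fac _ _ _
  haveI : IsOpenImmersion i₂ := by
    haveI : IsOpenImmersion (i₂ ≫ W'.ι) := by rw [hi₂]; infer_instance
    exact IsOpenImmersion.of_comp i₂ W'.ι
  have hP : IsPullback fl sl i₁ i₂ := by
    have h := IsPullback.of_hasPullback W.ι ((Nhd.toBase X x).app l)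
    have w : fl ≫ i₁ = sl ≫ i₂ := by
      rw [← cancel_mono W'.ι, Category.assoc, Category.assoc, Scheme.homOfLE_ι, hi₂]
      exact pullback.condition
    refine IsPullback.of_isLimit' ⟨w⟩ (PullbackCone.IsLimit.mk _
      (fun s => h.lift s.fst s.snd (by
        rw [← Scheme.homOfLE_ι X (le_sup_left : W ≤ W'), ← hi₂, reassoc_of% s.condition]))
      (fun s => h.lift_fst _ _ _) (fun s => h.lift_snd _ _ _)
      (fun s m h1 h2 => h.hom_ext (h1.trans (h.lift_fst _ _ _).symm)
        (h2.trans (h.lift_snd _ _ _).symm)))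
  have hcov : Set.range i₁ ∪ Set.range i₂ = Set.univ := by
    refine Set.eq_univ_of_forall fun y => ?_
    rcases (show y.1 ∈ W ⊔ l.V from y.2) with hy | hy
    · exact Or.inl ⟨⟨y.1, hy⟩, W'.ι.isOpenEmbedding.injective (by
        rw [← Scheme.Hom.comp_apply, Scheme.homOfLE_ι]; rfl)⟩
    · obtain ⟨t, ht⟩ := l.isAffine.range_fromSpec.ge hy
      refine Or.inr ⟨t, W'.ι.isOpenEmbedding.injective ?_⟩
      rw [← Scheme.Hom.comp_apply, hi₂]
      exact ht
  obtain ⟨Y, p, j, h1, h2, h3⟩ := glue i₁ i₂ hcov a b hP ε hε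
  exact ⟨W', le_sup_left, Y, p, j, Or.inr l.mem, h1, h2, h3⟩

end Groth.Agent.FEtSpreadGlue
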