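import Groth.Prelude.Def_FEt
import Groth.Agent.LocImmersion.TwoGlue

/-!
# Gluing two finite etale covers along an open overlap
-/

set_option autoImplicit false
set_option backward.isDefEq.respectTransparency false
set_option backward.isDefEq.respectTransparency.types false

universe u
open CategoryTheory CategoryTheory.Limits AlgebraicGeometry

noncomputable section

namespace Groth.Agent.FEtSpreadGlue

/-- Two finite etale covers agreeing on the overlap of two opens glue. -/
theorem glue {X A B YA YB : Scheme.{u}} (i₁ : A ⟶ X) (i₂ : B ⟶ X) [IsOpenImmersion i₁]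
    [IsOpenImmersion i₂] (hcov : Set.range i₁ ∪ Set.range i₂ = Set.univ)
    (a : YA ⟶ A) (b : YB ⟶ B) [IsFinite a] [Etale a] [IsFinite b] [Etale b]
    {P : Scheme.{u}} {p₁ : P ⟶ A} {p₂ : P ⟶ B} (hP : IsPullback p₁ p₂ i₁ i₂)
    (e : pullback a p₁ ≅ pullback b p₂) (he : e.hom ≫ pullback.snd b _ = pullback.snd a _) :
    ∃ (Y : Scheme.{u}) (p : Y ⟶ X) (j : YA ⟶ Y), IsFinite p ∧ Etale p ∧ IsPullback j a p i₁ := by
  haveI : IsOpenImmersion p₁ := MorphismProperty.of_isPullback hP.flip ‹IsOpenImmersion i₂›
  haveI : IsOpenImmersion p₂ := MorphismProperty.of_isPullback hP ‹IsOpenImmersion i₁›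
  let α := pullback.fst a p₁
  let β := e.hom ≫ pullback.fst b p₂
  haveI : IsOpenImmersion α := inferInstance
  haveI : IsOpenImmersion β := inferInstance
  haveI := LocImmersion.isOpenImmersion_pushoutInl α β
  haveI := LocImmersion.isOpenImmersion_pushoutInr α β
  have hw : α ≫ a ≫ i₁ = β ≫ b ≫ i₂ := by
    simp only [α, β, Category.assoc]
    rw [pullback.condition_assoc, pullback.condition_assoc, reassoc_of% he, hP.w]
  let p := pushout.desc (a ≫ i₁) (b ≫ i₂) hw
  have hl : pushout.inl α β ≫ p = a ≫ i₁ := pushout.inl_desc _ _ _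
  have hr : pushout.inr α β ≫ p = b ≫ i₂ := pushout.inr_desc _ _ _
  have huniv := Set.eq_univ_iff_forall.mp (LocImmersion.pushout_range_union α β)
  have h1 : IsPullback a (pushout.inl α β) i₁ p := by
    refine IsOpenImmersion.isPullback _ _ _ _ hl ?_
    ext z
    change p z ∈ Set.range i₁ ↔ z ∈ Set.range (pushout.inl α β)
    constructor
    · rintro ⟨s, hs⟩
      rcases huniv z with hz | ⟨y, rfl⟩
      · exact hz
      · rw [← Scheme.Hom.comp_apply, hr, Scheme.Hom.comp_apply] at hs
        obtain ⟨q', -, hq'⟩ := Scheme.Pullback.exists_preimage_pullback s (b y) hs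
        have hq : p₂ (hP.isoPullback.inv q') = b y := by
          rw [← Scheme.Hom.comp_apply, hP.isoPullback_inv_snd, hq']
        obtain ⟨r, hr1, -⟩ := Scheme.Pullback.exists_preimage_pullback (f := b)
          (g := p₂) y _ hq.symm
        refine ⟨α (e.inv r), ?_⟩
        rw [← Scheme.Hom.comp_apply α, pushout.condition, Scheme.Hom.comp_apply,
          Scheme.Hom.comp_apply, ← Scheme.Hom.comp_apply e.inv, Iso.inv_hom_id]
        exact congrArg _ hr1
    · rintro ⟨y, rfl⟩
      exact ⟨a y, by rw [← Scheme.Hom.comp_apply _ p, hl]; rfl⟩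
  have h2 : IsPullback b (pushout.inr α β) i₂ p := by
    refine IsOpenImmersion.isPullback _ _ _ _ hr ?_
    ext z
    change p z ∈ Set.range i₂ ↔ z ∈ Set.range (pushout.inr α β)
    constructor
    · rintro ⟨s, hs⟩
      rcases huniv z with ⟨y, rfl⟩ | hz
      · rw [← Scheme.Hom.comp_apply, hl, Scheme.Hom.comp_apply] at hs
        obtain ⟨q', hq', -⟩ := Scheme.Pullback.exists_preimage_pullback (a y) s hs.symm
        have hq : p₁ (hP.isoPullback.inv q') = a y := by
          rw [← Scheme.Hom.comp_apply, hP.isoPullback_inv_fst, hq']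
        obtain ⟨r, hr1, -⟩ := Scheme.Pullback.exists_preimage_pullback (f := a)
          (g := p₁) y _ hq.symm
        refine ⟨β r, ?_⟩
        rw [← Scheme.Hom.comp_apply β, ← pushout.condition, Scheme.Hom.comp_apply]
        exact congrArg _ hr1
      · exact hz
    · rintro ⟨y, rfl⟩
      exact ⟨b y, by rw [← Scheme.Hom.comp_apply _ p, hr]; rfl⟩
  let 𝒰 : X.OpenCover :=
    { I₀ := ULift.{u} Bool
      X := fun i => cond i.down A B
      f := fun ⟨i⟩ => match i with
        | true => i₁
        | false => i₂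
      mem₀ := by
        rw [Scheme.presieve₀_mem_precoverage_iff]
        refine ⟨fun x => ?_, ?_⟩
        · rcases Set.eq_univ_iff_forall.mp hcov x with ⟨y, hy⟩ | ⟨y, hy⟩
          · exact ⟨⟨true⟩, y, hy⟩
          · exact ⟨⟨false⟩, y, hy⟩
        · rintro ⟨_ | _⟩ <;> infer_instance }
  have key : ∀ (P : MorphismProperty Scheme.{u}) [IsZariskiLocalAtTarget P], P a → P b → P p := by
    intro P _ ha hb
    refine IsZariskiLocalAtTarget.of_openCover 𝒰 ?_
    rintro ⟨_ | _⟩
    · change P (pullback.snd p i₂)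
      rw [← MorphismProperty.cancel_left_of_respectsIso P h2.flip.isoPullback.hom,
        h2.flip.isoPullback_hom_snd]
      exact hb
    · change P (pullback.snd p i₁)
      rw [← MorphismProperty.cancel_left_of_respectsIso P h1.flip.isoPullback.hom,
        h1.flip.isoPullback_hom_snd]
      exact ha
  exact ⟨_, p, pushout.inl α β, key @IsFinite ‹_› ‹_›, key @Etale ‹_› ‹_›, h1.flip⟩

end Groth.Agent.FEtSpreadGlue
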